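import Mathlib

/-!
Group theoretic helpers for the torus statements about the small Ree groups.
-/

set_option autoImplicit false

namespace Cfsg.Agent.KnownA.ReeLocal

open scoped commutatorElement

variable {G : Type*} [Group G] [Finite G]

/-- in a cyclic subgroup an element is a power of any element whose order it divides -/
theorem mem_zpowers_of_cyclic {T : Subgroup G} (hT : IsCyclic ↥T) {b z : G} (hb : b ∈ T) (hz : z ∈ T)
    (hzn : z ^ orderOf b = 1) : z ∈ Subgroup.zpowers b := by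
  let := hT.commGroup
  have e : Subgroup.zpowers (⟨b, hb⟩ : ↥T) = (powMonoidHom (orderOf b) : ↥T →* ↥T).ker := by
    refine Subgroup.eq_of_le_of_card_ge
      (by rw [Subgroup.zpowers_le, MonoidHom.mem_ker, powMonoidHom_apply]
          exact Subtype.ext (pow_orderOf_eq_one b)) ?_
    rw [Nat.card_zpowers, Subgroup.orderOf_mk, IsCyclic.card_powMonoidHom_ker]
    exact Nat.le_of_dvd (orderOf_pos b) (Nat.gcd_dvd_right _ _)
  have : (⟨z, hz⟩ : ↥T) ∈ Subgroup.zpowers (⟨b, hb⟩ : ↥T) := by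
    rw [e, MonoidHom.mem_ker, powMonoidHom_apply]
    exact Subtype.ext hzn
  obtain ⟨i, hi⟩ := Subgroup.mem_zpowers_iff.1 this
  exact Subgroup.mem_zpowers_iff.2 ⟨i, congrArg Subtype.val hi⟩

/-- generators of the same order generate the same subgroup -/
theorem zpowers_eq_of_mem {a b : G} (hab : a ∈ Subgroup.zpowers b) (ho : orderOf a = orderOf b) :
    Subgroup.zpowers a = Subgroup.zpowers b :=
  Subgroup.eq_of_le_of_card_ge (Subgroup.zpowers_le.2 hab) (by rw [Nat.card_zpowers, Nat.card_zpowers, ho])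

/-- the number of generators of a cyclic subgroup -/
theorem card_generators (a : G) :
    Nat.card {y : ↥(Subgroup.zpowers a) // orderOf (y : G) = orderOf a} = Nat.totient (orderOf a) := by
  classical
  let := Fintype.ofFinite ↥(Subgroup.zpowers a)
  rw [Nat.card_congr (Equiv.subtypeEquivRight fun y : ↥(Subgroup.zpowers a) => by rw [Subgroup.orderOf_coe])]
  rw [Nat.card_eq_fintype_card, Fintype.card_subtype]
  exact IsCyclic.card_orderOf_eq_totient (by rw [← Nat.card_eq_fintype_card, Nat.card_zpowers])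

/-- counting a conjugation invariant set through a trivial intersection subgroup -/
theorem card_invariant (T : Subgroup G) (P : G → Prop) (hP : ∀ g z : G, P z → P (g * z * g⁻¹))
    (hex : ∀ z, P z → ∃ g : G, g * z * g⁻¹ ∈ T)
    (hTI : ∀ y ∈ T, P y → ∀ g : G, g * y * g⁻¹ ∈ T → g ∈ Subgroup.normalizer (T : Set G)) :
    Nat.card {z : G // P z} * Nat.card ↥(Subgroup.normalizer (T : Set G)) =
      Nat.card G * Nat.card {y : ↥T // P y} := by
  classical
  rw [← Nat.card_prod, ← Nat.card_prod]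
  let c : {z : G // P z} → G := fun z => (hex z.1 z.2).choose
  have hc : ∀ z, c z * z.1 * (c z)⁻¹ ∈ T := fun z => (hex z.1 z.2).choose_spec
  let F : {z : G // P z} × ↥(Subgroup.normalizer (T : Set G)) → G × {y : ↥T // P y} :=
    fun p => (p.2.1 * c p.1, ⟨⟨p.2.1 * (c p.1 * p.1.1 * (c p.1)⁻¹) * p.2.1⁻¹,
      (Subgroup.mem_normalizer_iff.1 p.2.2 _).1 (hc p.1)⟩, hP _ _ (hP _ _ p.1.2)⟩)
  refine Nat.card_eq_of_bijective F ⟨?_, ?_⟩
  · rintro ⟨z, n⟩ ⟨z', n'⟩ e
    have e1 := congrArg Prod.fst e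
    have e2 := congrArg (fun q : G × {y : ↥T // P y} => q.2.1.1) e
    dsimp only [F] at e1 e2
    have hz : z = z' := by
      apply Subtype.ext
      calc z.1 = (n.1 * c z)⁻¹ * (n.1 * (c z * z.1 * (c z)⁻¹) * n.1⁻¹) * (n.1 * c z) := by group
        _ = (n'.1 * c z')⁻¹ * (n'.1 * (c z' * z'.1 * (c z')⁻¹) * n'.1⁻¹) * (n'.1 * c z') := by rw [e2, e1]
        _ = z'.1 := by group
    subst hz
    exact Prod.ext rfl (Subtype.ext (mul_right_cancel e1))
  · rintro ⟨g, ⟨⟨y, hy⟩, hyP⟩⟩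
    let z : {z : G // P z} := ⟨g⁻¹ * y * g, by simpa using hP g⁻¹ y hyP⟩
    have hn : g * (c z)⁻¹ ∈ Subgroup.normalizer (T : Set G) := by
      refine hTI _ (hc z) (hP _ _ z.2) _ ?_
      rw [show g * (c z)⁻¹ * (c z * z.1 * (c z)⁻¹) * (g * (c z)⁻¹)⁻¹ = g * (g⁻¹ * y * g) * g⁻¹ by
        show g * (c z)⁻¹ * (c z * (g⁻¹ * y * g) * (c z)⁻¹) * (g * (c z)⁻¹)⁻¹ = _; group]
      group
      exact hy
    refine ⟨(z, ⟨g * (c z)⁻¹, hn⟩), Prod.ext (inv_mul_cancel_right g (c z)) (Subtype.ext (Subtype.ext ?_))⟩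
    show g * (c z)⁻¹ * (c z * (g⁻¹ * y * g) * (c z)⁻¹) * (g * (c z)⁻¹)⁻¹ = y
    group

/-- elements of a given order when the cyclic subgroups of that order are conjugate -/
theorem card_order_mul {a : G} {i : ℕ} (ha : orderOf a = i)
    (hconj : ∀ z : G, orderOf z = i → ∃ g : G, g * z * g⁻¹ ∈ Subgroup.zpowers a) :
    Nat.card {z : G // orderOf z = i} * Nat.card ↥(Subgroup.normalizer (Subgroup.zpowers a : Set G)) =
      Nat.card G * Nat.totient i := by
  subst ha
  rw [card_invariant (Subgroup.zpowers a) (fun z => orderOf z = orderOf a)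
    (fun g z hz => by rw [← MulAut.conj_apply, MulEquiv.orderOf_eq, hz]) hconj ?_, card_generators]
  intro y hy hyo g hg
  have hgo : orderOf (g * y * g⁻¹) = orderOf a := by rw [← MulAut.conj_apply, MulEquiv.orderOf_eq, hyo]
  refine Subgroup.mem_normalizer_iff.2 fun x => ?_
  rw [← zpowers_eq_of_mem hy hyo]
  conv_rhs => rw [zpowers_eq_of_mem hy hyo, ← zpowers_eq_of_mem hg hgo]
  constructor
  · intro hx
    obtain ⟨j, rfl⟩ := Subgroup.mem_zpowers_iff.1 hx
    exact Subgroup.mem_zpowers_iff.2 ⟨j, by rw [conj_zpow]⟩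
  · intro hx
    obtain ⟨j, hj⟩ := Subgroup.mem_zpowers_iff.1 hx
    rw [conj_zpow] at hj
    exact Subgroup.mem_zpowers_iff.2 ⟨j, mul_left_cancel (mul_right_cancel hj)⟩

/-- elements of twice an odd order are pairs of an element and a commuting involution -/
theorem card_double_sigma {j : ℕ} (hj : Odd j) :
    Nat.card {z : G // orderOf z = 2 * j} =
      Nat.card (Σ y : {y : G // orderOf y = j}, {t : G // orderOf t = 2 ∧ y.1 * t = t * y.1}) := by
  classical
  have key : ∀ y t : G, orderOf y = j → orderOf t = 2 → y * t = t * y → (t * y) ^ j = t := by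
    intro y t hy ht hc
    have ht2 : t ^ 2 = 1 := by have := pow_orderOf_eq_one t; rwa [ht] at this
    rw [(show Commute t y from hc.symm).mul_pow, show y ^ j = 1 from hy ▸ pow_orderOf_eq_one y, mul_one]
    obtain ⟨l, rfl⟩ := hj
    rw [pow_succ, pow_mul, ht2, one_pow, one_mul]
  let F : (Σ y : {y : G // orderOf y = j}, {t : G // orderOf t = 2 ∧ y.1 * t = t * y.1}) → {z : G // orderOf z = 2 * j} :=
    fun p => ⟨p.2.1 * p.1.1, by
      rw [(show Commute p.2.1 p.1.1 from p.2.2.2.symm).orderOf_mul_eq_mul_orderOf_of_coprime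
        (by rw [p.2.2.1, p.1.2]; exact Nat.coprime_two_left.2 hj), p.2.2.1, p.1.2]⟩
  refine (Nat.card_eq_of_bijective F ⟨?_, ?_⟩).symm
  · rintro ⟨⟨y, hy⟩, ⟨t, ht, hc⟩⟩ ⟨⟨y', hy'⟩, ⟨t', ht', hc'⟩⟩ e
    have e' : t * y = t' * y' := congrArg Subtype.val e
    have htt : t = t' := by rw [← key y t hy ht hc, e', key y' t' hy' ht' hc']
    subst htt
    obtain rfl : y = y' := mul_left_cancel e'
    rfl
  · rintro ⟨z, hz⟩
    have ht : orderOf (z ^ j) = 2 := by
      rw [orderOf_pow_of_dvd hj.pos.ne' (hz ▸ Dvd.intro_left _ rfl), hz, Nat.mul_div_cancel _ hj.pos]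
    have hy : orderOf (z ^ (j + 1)) = j := by
      rw [orderOf_pow, hz]
      obtain ⟨l, rfl⟩ := hj
      rw [show 2 * l + 1 + 1 = 2 * (l + 1) by ring, Nat.gcd_mul_left, Nat.mul_div_mul_left _ _ (by norm_num),
        show Nat.gcd (2 * l + 1) (l + 1) = 1 from ?_, Nat.div_one]
      refine Nat.eq_one_of_dvd_one ((Nat.dvd_add_right (Nat.gcd_dvd_left (2 * l + 1) (l + 1))).1 ?_)
      rw [show 2 * l + 1 + 1 = 2 * (l + 1) by ring]
      exact Dvd.dvd.mul_left (Nat.gcd_dvd_right _ _) 2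
    refine ⟨⟨⟨_, hy⟩, ⟨_, ht, ((Commute.refl z).pow_pow _ _).eq⟩⟩, Subtype.ext ?_⟩
    show z ^ j * z ^ (j + 1) = z
    rw [← pow_add, show j + (j + 1) = 2 * j + 1 by ring, pow_succ, ← hz, pow_orderOf_eq_one, one_mul]

/-- elements of twice an odd order, counted by their involution parts -/
theorem card_double {j : ℕ} (hj : Odd j) (c : ℕ)
    (hc : ∀ y : G, orderOf y = j → Nat.card {t : G // orderOf t = 2 ∧ y * t = t * y} = c) :
    Nat.card {z : G // orderOf z = 2 * j} = Nat.card {y : G // orderOf y = j} * c := by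
  classical
  let := Fintype.ofFinite {y : G // orderOf y = j}
  rw [card_double_sigma hj, Nat.card_sigma, Finset.sum_congr rfl (fun y _ => hc y.1 y.2), Finset.sum_const,
    Finset.card_univ, smul_eq_mul, Nat.card_eq_fintype_card]

/-- a nontrivial solvable subgroup normalises a nontrivial elementary abelian group of prime exponent -/
theorem exists_elementary {S : Subgroup G} (hS : Group.IsSolvable ↥S) (hne : S ≠ ⊥) :
    ∃ r : ℕ, r.Prime ∧ ∃ A : Subgroup G, A ≠ ⊥ ∧ (∀ a ∈ A, ∀ b ∈ A, a * b = b * a) ∧ (∀ a ∈ A, a ^ r = 1) ∧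
      S ≤ Subgroup.normalizer (A : Set G) := by
  classical
  have hex := hS.solvable
  let n := Nat.find hex
  have hn : derivedSeries (↥S) n = ⊥ := Nat.find_spec hex
  have hn0 : n ≠ 0 := fun e => by
    rw [e, derivedSeries_zero] at hn
    have : Subsingleton ↥S := ⟨fun a b => by
      have ha : a ∈ (⊥ : Subgroup ↥S) := hn ▸ Subgroup.mem_top a
      have hb : b ∈ (⊥ : Subgroup ↥S) := hn ▸ Subgroup.mem_top b
      rw [Subgroup.mem_bot.1 ha, Subgroup.mem_bot.1 hb]⟩
    exact hne (Subgroup.eq_bot_of_subsingleton S)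
  obtain ⟨k, hk⟩ : ∃ k, n = k + 1 := ⟨n - 1, by omega⟩
  set D := derivedSeries (↥S) k with hD
  have hDne : D ≠ ⊥ := fun e => by
    have := Nat.find_min' hex e
    omega
  have hDc : ∀ a ∈ D, ∀ b ∈ D, a * b = b * a := by
    intro a ha b hb
    have : ⁅a, b⁆ ∈ derivedSeries (↥S) n := by
      rw [hk, derivedSeries_succ]; exact Subgroup.commutator_mem_commutator ha hb
    rw [hn, Subgroup.mem_bot] at this
    exact commutatorElement_eq_one_iff_mul_comm.1 this
  obtain ⟨r, hr, hrd⟩ := Nat.exists_prime_and_dvd (fun e => hDne (Subgroup.card_eq_one.1 e) : Nat.card ↥D ≠ 1)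
  have : Fact r.Prime := ⟨hr⟩
  obtain ⟨⟨u, hu⟩, huo⟩ := exists_prime_orderOf_dvd_card' r hrd
  rw [Subgroup.orderOf_mk] at huo
  let A : Subgroup G :=
    { carrier := {x | ∃ y : ↥S, y ∈ D ∧ (y : G) = x ∧ x ^ r = 1}
      mul_mem' := by
        rintro _ _ ⟨a, ha, rfl, ha'⟩ ⟨b, hb, rfl, hb'⟩
        refine ⟨a * b, mul_mem ha hb, rfl, ?_⟩
        rw [(show Commute (a : G) b from congrArg Subtype.val (hDc a ha b hb)).mul_pow, ha', hb', one_mul]
      one_mem' := ⟨1, one_mem _, rfl, one_pow _⟩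
      inv_mem' := by
        rintro _ ⟨a, ha, rfl, ha'⟩
        exact ⟨a⁻¹, inv_mem ha, rfl, by rw [inv_pow, ha', inv_one]⟩ }
  refine ⟨r, hr, A, fun e => ?_, ?_, fun a ha => ha.choose_spec.2.2, ?_⟩
  · have hmem : (u : G) ∈ A := ⟨u, hu, rfl, by rw [← huo, ← SubgroupClass.coe_pow, pow_orderOf_eq_one]; rfl⟩
    rw [e, Subgroup.mem_bot, OneMemClass.coe_eq_one] at hmem
    rw [hmem, orderOf_one] at huo
    exact hr.ne_one huo.symm
  · rintro _ ⟨a, ha, rfl, -⟩ _ ⟨b, hb, rfl, -⟩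
    exact congrArg Subtype.val (hDc a ha b hb)
  · have step : ∀ s ∈ S, ∀ x ∈ A, s * x * s⁻¹ ∈ A := by
      rintro s hs _ ⟨y, hy, rfl, hy'⟩
      refine ⟨⟨s, hs⟩ * y * ⟨s, hs⟩⁻¹, (derivedSeries_normal (↥S) k).conj_mem y hy _, rfl, ?_⟩
      rw [conj_pow, hy', mul_one, mul_inv_cancel]
    intro s hs
    refine Subgroup.mem_normalizer_iff.2 fun x => ⟨step s hs x, fun hx => ?_⟩
    have := step s⁻¹ (inv_mem hs) _ hx
    rwa [show s⁻¹ * (s * x * s⁻¹) * s⁻¹⁻¹ = x by group] at this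

end Cfsg.Agent.KnownA.ReeLocal
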